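import Groth.Agent.Lib.FrobSynt13.Main
import Groth.Agent.Lib.Frob.Basic
import Groth.Agent.Lib.DimCut.Product
import Groth.Agent.Lib.CycBasic.Push
import Groth.Prelude.Def_ResDeg
import Mathlib.AlgebraicGeometry.FunctionField
import Mathlib.RingTheory.Algebraic.Integral
import Mathlib.AlgebraicGeometry.Geometrically.Reduced

/-!
# The degree of the relative Frobenius of a variety
-/

set_option autoImplicit false
set_option backward.isDefEq.respectTransparency false
set_option linter.all false

universe u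

open CategoryTheory CategoryTheory.Limits AlgebraicGeometry TopologicalSpace TensorProduct

noncomputable section

namespace GrothLib.FrobDeg5

theorem isFractionRing_residueField {T : Scheme.{u}} [IsIntegral T] {W : T.Opens} (hW : IsAffineOpen W)
    (t : T) (ht : t = genericPoint T) (htW : t ∈ W) :
    letI := (T.presheaf.germ W t htW ≫ T.residue t).hom.toAlgebra
    IsFractionRing Γ(T, W) (T.residueField t) := by
  subst ht
  haveI : Nonempty W := ⟨⟨_, htW⟩⟩
  haveI := functionField_isFractionRing_of_isAffineOpen T W hW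
  letI := (T.presheaf.germ W (genericPoint T) htW ≫ T.residue (genericPoint T)).hom.toAlgebra
  letI : Field (T.presheaf.stalk (genericPoint T)) := inferInstanceAs (Field T.functionField)
  let ρ : T.functionField →ₐ[Γ(T, W)] T.residueField (genericPoint T) :=
    { (T.residue (genericPoint T)).hom with commutes' := fun a => rfl }
  exact IsLocalization.isLocalization_of_algEquiv _
    (AlgEquiv.ofBijective ρ ⟨RingHom.injective ρ.toRingHom, T.residue_surjective _⟩)

/-- The residue degree at the generic point of a morphism that is finite free on affine pieces. -/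
theorem residueDegree_eq_finrank {X T : Scheme.{u}} [IsIntegral X] [IsIntegral T] (g : X ⟶ T)
    (hg : g (genericPoint X) = genericPoint T) {W : T.Opens} (hW : IsAffineOpen W) {U : X.Opens}
    (hU : IsAffineOpen U) [Nonempty U] (e : U ≤ g ⁻¹ᵁ W) (n : ℕ) (hn : 0 < n)
    (h : letI := (g.appLE W U e).hom.toAlgebra; Module.finrank Γ(T, W) Γ(X, U) = n)
    (hfinite : (g.appLE W U e).hom.Finite)
    (hinj : Function.Injective (g.appLE W U e).hom) :
    g.residueDegree (genericPoint X) = n := by
  have hηU : genericPoint X ∈ U :=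
    ((genericPoint_spec X).mem_open_set_iff U.2).2 (by
      obtain ⟨z⟩ := ‹Nonempty U›
      exact ⟨z.1, trivial, z.2⟩)
  haveI : Nonempty W := ⟨⟨g (genericPoint X), e hηU⟩⟩
  letI := (g.appLE W U e).hom.toAlgebra
  letI aK := (T.presheaf.germ W (g (genericPoint X)) (e hηU) ≫ T.residue (g (genericPoint X))).hom.toAlgebra
  letI aL := (X.presheaf.germ U (genericPoint X) hηU ≫ X.residue (genericPoint X)).hom.toAlgebra
  haveI : IsFractionRing Γ(T, W) (T.residueField (g (genericPoint X))) := isFractionRing_residueField hW _ hg _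
  haveI : IsFractionRing Γ(X, U) (X.residueField (genericPoint X)) := isFractionRing_residueField hU _ rfl _
  letI aM := (g.residueFieldMap (genericPoint X)).hom.toAlgebra
  letI aT : Algebra Γ(T, W) (X.residueField (genericPoint X)) :=
    ((algebraMap Γ(X, U) (X.residueField (genericPoint X))).comp (algebraMap Γ(T, W) Γ(X, U))).toAlgebra
  haveI : IsScalarTower Γ(T, W) Γ(X, U) (X.residueField (genericPoint X)) := IsScalarTower.of_algebraMap_eq fun a => rfl
  haveI : IsScalarTower Γ(T, W) (T.residueField (g (genericPoint X))) (X.residueField (genericPoint X)) :=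
    IsScalarTower.of_algebraMap_eq' (congrArg CommRingCat.Hom.hom (show
      g.appLE W U e ≫ X.presheaf.germ U (genericPoint X) hηU ≫ X.residue (genericPoint X) =
        (T.presheaf.germ W (g (genericPoint X)) (e hηU) ≫ T.residue (g (genericPoint X))) ≫
          g.residueFieldMap (genericPoint X) by
      rw [Category.assoc, Scheme.residue_residueFieldMap, ← Category.assoc, ← Category.assoc]
      refine congrArg (fun z => z ≫ X.residue (genericPoint X)) ?_
      rw [Scheme.Hom.germ_stalkMap, Scheme.Hom.appLE, Category.assoc, TopCat.Presheaf.germ_res]))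
  haveI : FaithfulSMul Γ(T, W) Γ(X, U) := (faithfulSMul_iff_algebraMap_injective _ _).2 hinj
  haveI : Module.Finite Γ(T, W) Γ(X, U) := hfinite
  show Module.finrank (T.residueField (g (genericPoint X))) (X.residueField (genericPoint X)) = n
  rw [IsFractionRing.finrank_eq Γ(T, W) (T.residueField (g (genericPoint X))) Γ(X, U)
    (X.residueField (genericPoint X)), h]

variable (p : ℕ) [hp : Fact p.Prime]

/-- Over a smooth integral piece the relative Frobenius has degree `p ^ d`. -/
theorem residueDegree_relFrob_of_smooth {S X : Scheme.{u}} [FrobSch.IsCharP S p] (f : X ⟶ S) (d : ℕ)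
    [SmoothOfRelativeDimension d f] [IsIntegral X] [IsIntegral (FrobSch.frobTwist f p)] :
    (FrobSch.relFrob f p).residueDegree (genericPoint X) = p ^ d := by
  haveI hXp : FrobSch.IsCharP X p := FrobSch.IsCharP.of_hom f p
  obtain ⟨V, hV, U, hU, hx, e, he⟩ :=
    SmoothOfRelativeDimension.exists_isStandardSmoothOfRelativeDimension (n := d) (f := f) (genericPoint X)
  let x := genericPoint X
  haveI : Nonempty V := ⟨⟨f x, e hx⟩⟩
  haveI : Nonempty U := ⟨⟨x, hx⟩⟩
  haveI : CharP Γ(S, V) p :=
    (CharP.charP_iff_prime_eq_zero hp.out).2 (FrobSch.natCast_eq_zero_app S p V)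
  haveI : CharP Γ(X, U) p :=
    (CharP.charP_iff_prime_eq_zero hp.out).2 (FrobSch.natCast_eq_zero_app X p U)
  letI : Algebra Γ(S, V) Γ(X, U) := (f.appLE V U e).hom.toAlgebra
  haveI : Algebra.IsStandardSmoothOfRelativeDimension d Γ(S, V) Γ(X, U) := he
  obtain ⟨gh, hgh⟩ :=
    Algebra.IsStandardSmoothOfRelativeDimension.exists_etale_mvPolynomial d Γ(S, V) Γ(X, U)
  letI : Algebra (MvPolynomial (Fin d) Γ(S, V)) Γ(X, U) := gh.toRingHom.toAlgebra
  haveI : IsScalarTower Γ(S, V) (MvPolynomial (Fin d) Γ(S, V)) Γ(X, U) :=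
    IsScalarTower.of_algebraMap_eq fun a => (gh.commutes a).symm
  haveI : Algebra.Etale (MvPolynomial (Fin d) Γ(S, V)) Γ(X, U) := hgh
  have hbij := GrothLib.FrobSynt13.bijective_linearCombination p d Γ(X, U) (A := Γ(S, V))
  -- the affine chart of the twist
  have H : IsPullback (pullback.fst f (FrobSch.frob S p)) (pullback.snd f (FrobSch.frob S p)) f
      (FrobSch.frob S p) := IsPullback.of_hasPullback _ _
  have hVV : V ≤ FrobSch.frob S p ⁻¹ᵁ V := le_rfl
  let W : (FrobSch.frobTwist f p).Opens :=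
    pullback.fst f (FrobSch.frob S p) ⁻¹ᵁ U ⊓ pullback.snd f (FrobSch.frob S p) ⁻¹ᵁ V
  have hW : IsAffineOpen W := by
    have : IsAffine _ := hV
    have : IsAffine _ := hU
    exact .of_isIso (Scheme.Hom.isPullback_resLE H hVV e (UY := W) rfl).isoPullback.hom
  have hpo := (isIso_pushoutSection_iff H hVV e (UY := W) rfl).1
    (isIso_pushoutSection_of_isAffineOpen H hVV e rfl hV hV hU)
  let tw : CommRingCat.of Γ(S, V) ≅ CommRingCat.of (FrobAlg.Twist p Γ(S, V)) :=
    (FrobAlg.toTwist p Γ(S, V)).toCommRingCatIso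
  have hfr : ∀ a : Γ(S, V), (FrobSch.frob S p).appLE V V hVV a = a ^ p := fun a => by
    rw [Scheme.Hom.appLE]
    change S.presheaf.map (𝟙 (Opposite.op V)) (a ^ p) = _
    rw [S.presheaf.map_id]
    rfl
  have hfrX : ∀ (hUU : U ≤ FrobSch.frob X p ⁻¹ᵁ U) (a : Γ(X, U)),
      (FrobSch.frob X p).appLE U U hUU a = a ^ p := fun hUU a => by
    rw [Scheme.Hom.appLE]
    change X.presheaf.map (𝟙 (Opposite.op U)) (a ^ p) = _
    rw [X.presheaf.map_id]
    rfl
  let inl : CommRingCat.of Γ(X, U) ⟶ CommRingCat.of (FrobAlg.BaseChange p Γ(S, V) Γ(X, U)) :=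
    CommRingCat.ofHom (Algebra.TensorProduct.includeLeftRingHom :
      Γ(X, U) →+* FrobAlg.BaseChange p Γ(S, V) Γ(X, U))
  let inr : CommRingCat.of Γ(S, V) ⟶ CommRingCat.of (FrobAlg.BaseChange p Γ(S, V) Γ(X, U)) :=
    tw.hom ≫ CommRingCat.ofHom (Algebra.TensorProduct.includeRight :
      FrobAlg.Twist p Γ(S, V) →ₐ[Γ(S, V)] FrobAlg.BaseChange p Γ(S, V) Γ(X, U)).toRingHom
  have hpo₂ : IsPushout (f.appLE V U e) ((FrobSch.frob S p).appLE V V hVV) inl inr := by
    refine (CommRingCat.isPushout_tensorProduct Γ(S, V) Γ(X, U) (FrobAlg.Twist p Γ(S, V))).of_iso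
      (Iso.refl _) (Iso.refl _) tw.symm (Iso.refl _) ?_ ?_ ?_ ?_
    · rfl
    · ext a
      exact (hfr a).symm
    · rfl
    · ext a
      rfl
  let E := hpo₂.isoIsPushout _ _ hpo
  have hUW : U ≤ FrobSch.relFrob f p ⁻¹ᵁ W := fun z hz => by
    refine ⟨?_, ?_⟩
    · change (FrobSch.relFrob f p ≫ pullback.fst f (FrobSch.frob S p)) z ∈ U
      rw [FrobSch.relFrob_fst, FrobSch.frob_apply]
      exact hz
    · change (FrobSch.relFrob f p ≫ pullback.snd f (FrobSch.frob S p)) z ∈ V
      rw [FrobSch.relFrob_snd]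
      exact e hz
  have key : E.hom ≫ (FrobSch.relFrob f p).appLE W U hUW =
      CommRingCat.ofHom (FrobAlg.relFrob p Γ(S, V) Γ(X, U)) := by
    apply hpo₂.hom_ext
    · rw [IsPushout.inl_isoIsPushout_hom_assoc, Scheme.Hom.appLE_comp_appLE]
      have h : ∀ (φ : X ⟶ X) (h' : U ≤ φ ⁻¹ᵁ U), φ = FrobSch.frob X p → ∀ a : Γ(X, U),
          φ.appLE U U h' a = a ^ p := by
        rintro φ h' rfl a
        exact hfrX h' a
      ext a
      change _ = FrobAlg.relFrob p Γ(S, V) Γ(X, U) (a ⊗ₜ 1)
      rw [GrothLib.Frob.relFrob_tmul, map_one, map_one, mul_one]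
      exact h _ _ (FrobSch.relFrob_fst f p) a
    · rw [IsPushout.inr_isoIsPushout_hom_assoc, Scheme.Hom.appLE_comp_appLE]
      have h : ∀ (φ : X ⟶ S) (h' : U ≤ φ ⁻¹ᵁ V), φ = f → φ.appLE V U h' = f.appLE V U e := by
        rintro φ h' rfl
        rfl
      rw [h _ _ (FrobSch.relFrob_snd f p)]
      ext a
      change _ = FrobAlg.relFrob p Γ(S, V) Γ(X, U) (1 ⊗ₜ FrobAlg.toTwist p Γ(S, V) a)
      rw [GrothLib.Frob.relFrob_tmul, one_pow, one_mul, RingEquiv.symm_apply_apply]
      rfl
  haveI : Nonempty W := ⟨⟨_, hUW hx⟩⟩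
  have hgen : (FrobSch.relFrob f p) (genericPoint X) = genericPoint (FrobSch.frobTwist f p) := by
    refine IsGenericPoint.eq ?_ (genericPoint_spec _)
    have h := (genericPoint_spec X).image (FrobSch.relFrob f p).continuous
    rwa [Set.image_univ, (GrothLib.Frob.isHomeomorph_of _ (GrothLib.Frob.isUnivHomeo_relFrob p f)).surjective.range_eq,
      closure_univ] at h
  haveI : IsDomain (FrobAlg.BaseChange p Γ(S, V) Γ(X, U)) :=
    MulEquiv.isDomain Γ(FrobSch.frobTwist f p, W) E.commRingCatIsoToRingEquiv.toMulEquiv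
  have hfin : (FrobSch.relFrob f p).appLE W U hUW =
      E.inv ≫ CommRingCat.ofHom (FrobAlg.relFrob p Γ(S, V) Γ(X, U)) := by
    rw [← key, Iso.inv_hom_id_assoc]
  have hrank : letI := (FrobAlg.relFrob p Γ(S, V) Γ(X, U)).toAlgebra
      Module.finrank (FrobAlg.BaseChange p Γ(S, V) Γ(X, U)) Γ(X, U) = p ^ d := by
    letI := (FrobAlg.relFrob p Γ(S, V) Γ(X, U)).toAlgebra
    rw [← (LinearEquiv.ofBijective _ hbij).finrank_eq, Module.finrank_fintype_fun_eq_card, Fintype.card_fun,
      Fintype.card_fin, Fintype.card_fin]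
  have hinj : Function.Injective (FrobAlg.relFrob p Γ(S, V) Γ(X, U)) := by
    letI := (FrobAlg.relFrob p Γ(S, V) Γ(X, U)).toAlgebra
    haveI := Module.Free.of_equiv (LinearEquiv.ofBijective _ hbij)
    haveI : Nontrivial Γ(X, U) := inferInstance
    exact FaithfulSMul.algebraMap_injective _ _
  have hFfin : (FrobAlg.relFrob p Γ(S, V) Γ(X, U)).Finite := by
    letI := (FrobAlg.relFrob p Γ(S, V) Γ(X, U)).toAlgebra
    exact Module.Finite.equiv (LinearEquiv.ofBijective _ hbij)
  refine residueDegree_eq_finrank _ hgen hW hU hUW _ (pow_pos hp.out.pos d) ?_ ?_ ?_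
  · rw [← hrank]
    letI := ((FrobSch.relFrob f p).appLE W U hUW).hom.toAlgebra
    letI := (FrobAlg.relFrob p Γ(S, V) Γ(X, U)).toAlgebra
    refine Algebra.finrank_eq_of_equiv_equiv E.symm.commRingCatIsoToRingEquiv (RingEquiv.refl Γ(X, U)) ?_
    ext a
    show FrobAlg.relFrob p Γ(S, V) Γ(X, U) (E.inv a) = (FrobSch.relFrob f p).appLE W U hUW a
    rw [hfin]
    rfl
  · rw [hfin, CommRingCat.hom_comp]
    exact hFfin.comp (RingHom.Finite.of_surjective _ (ConcreteCategory.bijective_of_isIso E.inv).2)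
  · rw [hfin, CommRingCat.hom_comp]
    exact hinj.comp (ConcreteCategory.bijective_of_isIso E.inv).1

variable (k : Type u) [Field k] [CharP k p]

/-- The Frobenius twist of a geometrically reduced variety is integral and the relative Frobenius has degree `p ^ d`. -/
theorem main (X : Scheme.{u}) (f : X ⟶ Spec (CommRingCat.of k)) [IsIntegral X] [LocallyOfFiniteType f]
    [GeometricallyReduced f] [FrobSch.IsCharP (Spec (CommRingCat.of k)) p] (d : ℕ) (hd : topologicalKrullDim X = d)
    (U₀ : X.Opens) (hU₀ : Dense (U₀ : Set X)) [Smooth (U₀.ι ≫ f)] :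
    IsIntegral (FrobSch.frobTwist f p) ∧ (FrobSch.relFrob f p).residueDegree (genericPoint X) = p ^ d := by
  have hint : ∀ {Y : Scheme.{u}} (g : Y ⟶ Spec (CommRingCat.of k)) [IsIntegral Y] [LocallyOfFiniteType g]
      [GeometricallyReduced g], IsIntegral (FrobSch.frobTwist g p) := by
    intro Y g _ _ _
    haveI : Flat g := inferInstance
    haveI : IsReduced (FrobSch.frobTwist g p) := inferInstance
    haveI : IrreducibleSpace (FrobSch.frobTwist g p) := by
      have hh := GrothLib.Frob.isHomeomorph_of _ (GrothLib.Frob.isUnivHomeo_relFrob p g)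
      have hu := (IrreducibleSpace.isIrreducible_univ Y).image _ hh.continuous.continuousOn
      rw [Set.image_univ, hh.surjective.range_eq] at hu
      exact { toNonempty := hu.nonempty.to_type, toPreirreducibleSpace := ⟨hu.isPreirreducible⟩ }
    exact isIntegral_of_irreducibleSpace_of_isReduced _
  refine ⟨hint f, ?_⟩
  haveI hne : Nonempty U₀ := by
    obtain ⟨z, hz⟩ := hU₀.nonempty
    exact ⟨⟨z, hz⟩⟩
  haveI : IsIntegral (U₀ : Scheme.{u}) := isIntegral_of_isOpenImmersion U₀.ι
  have hdU : topologicalKrullDim U₀ = d := (DimCut.dim_opens_eq f U₀ hne).trans hd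
  haveI : SmoothOfRelativeDimension d (U₀.ι ≫ f) := DimCut.smoothOfRelativeDimension _ d hdU
  haveI := hint f
  let m := pullback.map (U₀.ι ≫ f) (FrobSch.frob (Spec (CommRingCat.of k)) p) f
    (FrobSch.frob (Spec (CommRingCat.of k)) p) U₀.ι (𝟙 _) (𝟙 _) (Category.comp_id _) (by simp)
  haveI : IsOpenImmersion m := inferInstance
  haveI : Nonempty (FrobSch.frobTwist (U₀.ι ≫ f) p) :=
    ⟨FrobSch.relFrob (U₀.ι ≫ f) p (Classical.arbitrary _)⟩
  haveI : IsIntegral (FrobSch.frobTwist (U₀.ι ≫ f) p) := isIntegral_of_isOpenImmersion m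
  haveI : FrobSch.IsCharP X p := FrobSch.IsCharP.of_hom f p
  haveI : FrobSch.IsCharP (U₀ : Scheme.{u}) p := FrobSch.IsCharP.of_hom U₀.ι p
  have h := residueDegree_relFrob_of_smooth p (U₀.ι ≫ f) d
  have hm : FrobSch.relFrob (U₀.ι ≫ f) p ≫ m = U₀.ι ≫ FrobSch.relFrob f p := by
    apply pullback.hom_ext
    · rw [Category.assoc, pullback.lift_fst, FrobSch.relFrob_fst_assoc, Category.assoc, FrobSch.relFrob_fst]
      exact FrobSch.frob_comp p U₀.ι
    · rw [Category.assoc, pullback.lift_snd, Category.comp_id, FrobSch.relFrob_snd, Category.assoc,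
        FrobSch.relFrob_snd]
  have hgen : U₀.ι (genericPoint (U₀ : Scheme.{u})) = genericPoint X :=
    genericPoint_eq_of_isOpenImmersion U₀.ι
  have h1 := CycBasic.residueDegree_comp (FrobSch.relFrob (U₀.ι ≫ f) p) m (genericPoint (U₀ : Scheme.{u}))
  rw [hm, CycBasic.residueDegree_comp, hgen] at h1
  have hone : ∀ {A B : Scheme.{u}} (q : A ⟶ B) [IsOpenImmersion q] (a : A), q.residueDegree a = 1 := by
    intro A B q _ a
    letI := (q.residueFieldMap a).hom.toAlgebra
    exact (Algebra.finrank_eq_of_equiv_equiv (asIso (q.residueFieldMap a)).commRingCatIsoToRingEquiv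
      (RingEquiv.refl _) (by ext z; rfl)).trans (Module.finrank_self _)
  rw [hone U₀.ι, hone m, h] at h1
  simpa using h1

end GrothLib.FrobDeg5
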